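import Mathlib
import Groth.Agent.H15Site.Deligne

/-!
# The regular site of a small abelian category
-/

set_option autoImplicit false
set_option linter.style.haveILetI false

universe u

open CategoryTheory CategoryTheory.Limits Opposite

namespace Groth.Agent.H16Derived.Freyd

variable (A : Type u) [SmallCategory A] [Abelian A] [Preregular A]

theorem isSheaf_yonedaAb (X : A) :
    Presheaf.IsSheaf (regularTopology A) (preadditiveYoneda.obj X) := by
  rw [Presheaf.isSheaf_iff_isSheaf_forget (regularTopology A) _ (CategoryTheory.forget AddCommGrpCat.{u})]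
  exact (Presheaf.isSheaf_of_iso_iff (NatIso.ofComponents (fun Y => Iso.refl _) :
    preadditiveYoneda.obj X ⋙ CategoryTheory.forget AddCommGrpCat.{u} ≅ yoneda.obj X)).2
    ((isSheaf_iff_isSheaf_of_type _ _).2 (GrothendieckTopology.Subcanonical.isSheaf_of_isRepresentable _))

/-- The embedding, landing in sheaves. -/
noncomputable abbrev emb : A ⥤ Sheaf (regularTopology A) AddCommGrpCat.{u} :=
  ObjectProperty.lift _ preadditiveYoneda (isSheaf_yonedaAb A)

/-- Representables do not change. -/
noncomputable def embIso : preadditiveYoneda ⋙ presheafToSheaf (regularTopology A) AddCommGrpCat.{u} ≅ emb A :=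
  Functor.isoWhiskerLeft (emb A)
    (asIso (sheafificationAdjunction (regularTopology A) AddCommGrpCat.{u}).counit)

theorem preservesFiniteLimits_preadditiveYoneda :
    PreservesFiniteLimits (preadditiveYoneda : A ⥤ Aᵒᵖ ⥤ AddCommGrpCat.{u}) :=
  ⟨fun J _ _ => preservesLimitsOfShape_of_evaluation _ _ fun W =>
    preservesLimitsOfShape_of_natIso
      (NatIso.ofComponents (fun _ => Iso.refl _) :
        preadditiveCoyoneda.obj W ≅ preadditiveYoneda ⋙ (evaluation Aᵒᵖ AddCommGrpCat.{u}).obj W)⟩

theorem preservesFiniteLimits : PreservesFiniteLimits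
    (preadditiveYoneda ⋙ presheafToSheaf (regularTopology A) AddCommGrpCat.{u}) :=
  haveI := preservesFiniteLimits_preadditiveYoneda A
  comp_preservesFiniteLimits _ _

theorem full_faithful :
    (preadditiveYoneda ⋙ presheafToSheaf (regularTopology A) AddCommGrpCat.{u}).Full ∧
      (preadditiveYoneda ⋙ presheafToSheaf (regularTopology A) AddCommGrpCat.{u}).Faithful :=
  ⟨Functor.Full.of_iso (embIso A).symm, Functor.Faithful.of_iso (embIso A).symm⟩

theorem epi_emb_map {X Y : A} (f : X ⟶ Y) [Epi f] : Epi ((emb A).map f) := by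
  haveI : Sheaf.IsLocallySurjective ((emb A).map f) :=
    ⟨fun {Z} g => by
      rw [regularTopology.mem_sieves_iff_hasEffectiveEpi]
      haveI : IsRegularEpiCategory A := inferInstance
      haveI : Epi (pullback.snd f (g : Z ⟶ Y)) := inferInstance
      haveI : IsRegularEpi (pullback.snd f (g : Z ⟶ Y)) := IsRegularEpiCategory.regularEpiOfEpi _
      refine ⟨pullback f (g : Z ⟶ Y), pullback.snd f (g : Z ⟶ Y), inferInstance, ?_⟩
      exact ⟨pullback.fst f (g : Z ⟶ Y), pullback.condition⟩⟩
  exact Sheaf.epi_of_isLocallySurjective _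

theorem preservesFiniteColimits : PreservesFiniteColimits
    (preadditiveYoneda ⋙ presheafToSheaf (regularTopology A) AddCommGrpCat.{u}) := by
  haveI := preservesFiniteLimits A
  set G := preadditiveYoneda ⋙ presheafToSheaf (regularTopology A) AddCommGrpCat.{u}
  haveI : G.Additive := Functor.additive_of_preserves_binary_products _
  haveI : G.PreservesEpimorphisms := ⟨fun f hf => by
    haveI := hf
    haveI := epi_emb_map A f
    rw [show G.map f = (embIso A).hom.app _ ≫ (emb A).map f ≫ (embIso A).inv.app _ by
      rw [← Category.assoc, ← (embIso A).hom.naturality, Category.assoc, Iso.hom_inv_id_app, Category.comp_id]]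
    infer_instance⟩
  haveI := Functor.preservesHomology_of_preservesEpis_and_kernels G
  exact G.preservesFiniteColimits_of_preservesHomology

theorem hasEnoughPoints : GrothendieckTopology.HasEnoughPoints.{u, u, u} (regularTopology A) :=
  H15Site.Deligne.hasEnoughPoints fun U S hS => by
    obtain ⟨Y, π, hπ, hS⟩ := (regularTopology.mem_sieves_iff_hasEffectiveEpi S).1 hS
    exact ⟨1, fun _ => Y, fun _ => π, fun _ => hS,
      (regularTopology.mem_sieves_iff_hasEffectiveEpi _).2 ⟨Y, π, hπ, Sieve.ofArrows_mk _ _ 0⟩⟩

end Groth.Agent.H16Derived.Freyd
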